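import Mathlib
import Cfsg.Agent.Lib.Helper42.PGraphS4
import Cfsg.Agent.Lib.Helper42.SpecPSp4

/-!
# `PSp₆(3)` has no element of order 26 (helper93)
-/

set_option autoImplicit false

namespace Cfsg.Agent.Lib.Helper93.S63

open Matrix Polynomial Module
open Cfsg.Agent.Lib.Helper42.SpecPSp Cfsg.Agent.Lib.Helper42.PGraphS

variable {F : Type*} [Field F] [Fintype F]

abbrev M6 (F : Type*) : Type _ := Matrix (Fin 3 ⊕ Fin 3) (Fin 3 ⊕ Fin 3) F

theorem charP3 (hF : Fintype.card F = 3) : CharP F 3 := by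
  have : Fact (Nat.Prime 3) := ⟨by norm_num⟩
  exact charP_of_card_eq_prime hF

theorem three_eq_zero (hF : Fintype.card F = 3) : (3 : F) = 0 := by
  have := charP3 hF
  exact_mod_cast CharP.cast_eq_zero F 3

theorem three_eq_zero' (hF : Fintype.card F = 3) : (3 : M6 F) = 0 := by
  have := charP3 hF
  exact_mod_cast CharP.cast_eq_zero (M6 F) 3

theorem thirteen_smul (hF : Fintype.card F = 3) (M : M6 F) : 13 • M = M := by
  have h : ((13 : ℕ) : F) = 1 := by
    have := three_eq_zero hF
    push_cast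
    linear_combination 4 * this
  rw [← Nat.cast_smul_eq_nsmul F 13 M, h, one_smul]

theorem ord13 (hF : Fintype.card F = 3) : orderOf ((Fintype.card F : ℕ) : ZMod 13) = 3 := by
  rw [hF]
  have : Fact (Nat.Prime 3) := ⟨by norm_num⟩
  exact orderOf_eq_prime (by decide) (by decide)

theorem geom_zero (hF : Fintype.card F = 3) (B : M6 F) (hBs : adj B * B = 1) (hB : B ^ 13 = 1)
    (hB1 : B ≠ 1) : ∑ i ∈ Finset.range 13, B ^ i = 0 := by
  have : Fact (Nat.Prime 13) := ⟨by norm_num⟩
  have h13 : ((13 : ℕ) : F) ≠ 0 := by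
    have := charP3 hF
    rw [Ne, CharP.cast_eq_zero_iff F 3]; norm_num
  have h := finrank_W_ge 13 (by norm_num) h13 B hBs hB hB1 3
    (Or.inl ⟨by rw [ord13 hF]; exact ⟨1, rfl⟩, (ord13 hF).symm⟩)
  set T := ∑ i ∈ Finset.range 13, B ^ i
  have htop : LinearMap.ker (mulVecLin T) = ⊤ := by
    apply Submodule.eq_top_of_finrank_eq
    apply le_antisymm (Submodule.finrank_le _)
    rw [Module.finrank_fintype_fun_eq_card]
    simpa using h
  have h0 : mulVecLin T = 0 := LinearMap.ker_eq_top.mp htop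
  ext i j
  have := congrFun (LinearMap.congr_fun h0 (Pi.single j 1)) i
  simpa using this

theorem caseA (hF : Fintype.card F = 3) (B t : M6 F) (hBs : adj B * B = 1) (hts : adj t * t = 1)
    (hB : B ^ 13 = 1) (hB1 : B ≠ 1) (hc : Commute B t) (ht : t * t = 1) : t = 1 ∨ t = -1 := by
  have h3 := three_eq_zero' hF
  have h111 : (1 + 1 + 1 : M6 F) = 0 := by rw [← h3]; norm_num
  have hT := geom_zero hF B hBs hB hB1
  have hadjt : adj t = t := by
    calc adj t = adj t * (t * t) := by rw [ht, mul_one]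
      _ = t := by rw [← mul_assoc, hts, one_mul]
  obtain ⟨P, hP⟩ : ∃ P : M6 F, P = -1 - t := ⟨_, rfl⟩
  obtain ⟨Q, hQ⟩ : ∃ Q : M6 F, Q = t - 1 := ⟨_, rfl⟩
  have hPQ1 : P + Q = 1 := by
    have : P + Q = 1 - (1 + 1 + 1) := by rw [hP, hQ]; abel
    rw [this, h111, sub_zero]
  have hPQ : P * Q = 0 := by
    have : P * Q = 1 - t * t := by rw [hP, hQ]; noncomm_ring
    rw [this, ht, sub_self]
  have hQP : Q * P = 0 := by
    have : Q * P = 1 - t * t := by rw [hP, hQ]; noncomm_ring
    rw [this, ht, sub_self]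
  have hPP : P * P = P := by
    have : P * (P + Q) = P := by rw [hPQ1, mul_one]
    rwa [mul_add, hPQ, add_zero] at this
  have hQQ : Q * Q = Q := by
    have : Q * (P + Q) = Q := by rw [hPQ1, mul_one]
    rwa [mul_add, hQP, zero_add] at this
  have hBP : Commute B P := by
    rw [hP]; exact ((Commute.one_right B).neg_right).sub_right hc
  have hBQ : Commute B Q := by
    rw [hQ]; exact hc.sub_right (Commute.one_right B)
  have haP : adj P = P := by rw [hP, adj_sub, adj_neg, adj_one, hadjt]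
  have haQ : adj Q = Q := by rw [hQ, adj_sub, adj_one, hadjt]
  have e3 : Q * (B * P) = 0 := by rw [← mul_assoc, ← hBQ.eq, mul_assoc, hQP, mul_zero]
  obtain ⟨B', hB'⟩ : ∃ B' : M6 F, B' = B * P + Q := ⟨_, rfl⟩
  have hpow : ∀ i : ℕ, B' ^ i = B ^ i * P + Q := by
    intro i
    induction i with
    | zero => rw [pow_zero, pow_zero, one_mul, hPQ1]
    | succ i ih =>
      rw [pow_succ, ih, hB']
      have e1 : B ^ i * P * (B * P) = B ^ (i + 1) * P := by
        rw [mul_assoc, ← mul_assoc P B P, ← hBP.eq, mul_assoc B P P, hPP, ← mul_assoc, ← pow_succ]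
      have e2 : B ^ i * P * Q = 0 := by rw [mul_assoc, hPQ, mul_zero]
      rw [add_mul, mul_add, mul_add, e1, e2, e3, hQQ, add_zero, zero_add]
  have hB's : adj B' * B' = 1 := by
    have f0 : adj B' = P * adj B + Q := by rw [hB', adj_add, adj_mul, haP, haQ]
    have f1 : P * adj B * (B * P) = P := by
      rw [mul_assoc, ← mul_assoc (adj B) B P, hBs, one_mul, hPP]
    have f2 : P * adj B * Q = 0 := by
      have := congrArg adj e3
      rwa [adj_mul, adj_mul, haP, haQ, adj_zero] at this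
    rw [f0, hB', add_mul, mul_add, mul_add, f1, f2, e3, hQQ, add_zero, zero_add, hPQ1]
  have hB'13 : B' ^ 13 = 1 := by rw [hpow, hB, one_mul, hPQ1]
  by_cases hB'1 : B' = 1
  · right
    have hBPP : B * P = P := by
      have : B * P + Q = P + Q := by rw [← hB', hB'1, hPQ1]
      exact add_right_cancel this
    have hpw : ∀ i : ℕ, B ^ i * P = P := by
      intro i
      induction i with
      | zero => rw [pow_zero, one_mul]
      | succ i ih => rw [pow_succ, mul_assoc, hBPP, ih]
    have h1 : (∑ i ∈ Finset.range 13, B ^ i) * P = 13 • P := by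
      rw [Finset.sum_mul]
      simp only [hpw, Finset.sum_const, Finset.card_range]
    rw [hT, zero_mul, thirteen_smul hF] at h1
    rw [hP] at h1
    have : t = -1 - (-1 - t) := by abel
    rw [this, ← h1, sub_zero]
  · left
    have hT' := geom_zero hF B' hB's hB'13 hB'1
    simp only [hpow] at hT'
    rw [Finset.sum_add_distrib, ← Finset.sum_mul, hT, zero_mul, zero_add, Finset.sum_const,
      Finset.card_range, thirteen_smul hF, hQ] at hT'
    exact sub_eq_zero.mp hT'

theorem rank_idem {ι : Type*} [Fintype ι] [DecidableEq ι] (e : Matrix ι ι F) (he : e * e = e) :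
    e.rank + (1 - e).rank = Fintype.card ι := by
  have h1 := LinearMap.finrank_range_add_finrank_ker (mulVecLin e)
  rw [Module.finrank_fintype_fun_eq_card] at h1
  have h2 : LinearMap.ker (mulVecLin e) = LinearMap.range (mulVecLin (1 - e)) := by
    ext v
    rw [LinearMap.mem_ker, LinearMap.mem_range]
    constructor
    · intro hv
      refine ⟨v, ?_⟩
      rw [mulVecLin_apply] at hv ⊢
      rw [sub_mulVec, one_mulVec, hv, sub_zero]
    · rintro ⟨w, rfl⟩
      rw [mulVecLin_apply, mulVecLin_apply, mulVec_mulVec, mul_sub, mul_one, he, sub_self, zero_mulVec]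
  rw [h2] at h1
  exact h1

theorem no_sqrt (hF : Fintype.card F = 3) (x : F) : x * x ≠ -1 := by
  intro h
  have h3 := three_eq_zero hF
  have hx3 : x ^ 3 = x := by
    have := FiniteField.pow_card x
    rwa [hF] at this
  have hx : x = 0 := by linear_combination hx3 - x * h + x * h3
  rw [hx, mul_zero] at h
  have : (1 : F) = 0 := by linear_combination h
  exact one_ne_zero this

theorem caseB' (hF : Fintype.card F = 3) (B t : M6 F) (hBs : adj B * B = 1)
    (hB : B ^ 13 = 1) (hB1 : B ≠ 1) (hc : Commute B t) (ht : t * t = -1) : False := by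
  have h3 := three_eq_zero' hF
  have h111 : (1 + 1 + 1 : M6 F) = 0 := by rw [← h3]; norm_num
  have hT := geom_zero hF B hBs hB hB1
  obtain ⟨s, hs⟩ : ∃ s : M6 F, s = B + B ^ 3 + B ^ 9 - B ^ 4 - B ^ 10 - B ^ 12 := ⟨_, rfl⟩
  have hss : s * s = 1 := by
    have key : ((X : F[X]) + X ^ 3 + X ^ 9 - X ^ 4 - X ^ 10 - X ^ 12) *
        (X + X ^ 3 + X ^ 9 - X ^ 4 - X ^ 10 - X ^ 12) - 1 =
        (∑ i ∈ Finset.range 13, (X : F[X]) ^ i) *
          (8 - 8 * X + 4 * X ^ 2 - 4 * X ^ 3 + 2 * X ^ 4 - X ^ 5 + 3 * X ^ 6 - 3 * X ^ 7 + 3 * X ^ 8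
            - 4 * X ^ 9 + 2 * X ^ 10 - X ^ 11 + X ^ 12) +
        3 * (-3 - X ^ 2 - X ^ 5 - X ^ 6 - X ^ 7 - X ^ 8 - X ^ 11) := by
      simp only [Finset.sum_range_succ, Finset.sum_range_zero]
      ring
    have hS : aeval B ((X : F[X]) + X ^ 3 + X ^ 9 - X ^ 4 - X ^ 10 - X ^ 12) = s := by
      simp [hs]
    have hΦ : aeval B (∑ i ∈ Finset.range 13, (X : F[X]) ^ i) = 0 := by
      rw [map_sum]; simpa using hT
    have h3' : aeval B (3 : F[X]) = 0 := by
      rw [map_ofNat]; exact h3
    have h := congrArg (aeval B) key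
    rw [map_sub, map_add, map_mul, map_mul, map_mul, hS, hΦ, h3', zero_mul, zero_mul, add_zero,
      map_one] at h
    exact sub_eq_zero.mp h
  have hadjB : adj B = B ^ 12 := adj_eq_pow B hBs 13 (by norm_num) hB
  have hadjs : adj s = -s := by
    have p3 : (B ^ 12) ^ 3 = B ^ 10 := by rw [← pow_mul, pow_eq_pow_mod _ hB]
    have p9 : (B ^ 12) ^ 9 = B ^ 4 := by rw [← pow_mul, pow_eq_pow_mod _ hB]
    have p4 : (B ^ 12) ^ 4 = B ^ 9 := by rw [← pow_mul, pow_eq_pow_mod _ hB]
    have p10 : (B ^ 12) ^ 10 = B ^ 3 := by rw [← pow_mul, pow_eq_pow_mod _ hB]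
    have p12 : (B ^ 12) ^ 12 = B := by rw [← pow_mul, pow_eq_pow_mod _ hB]; exact pow_one B
    rw [hs]
    simp only [adj_add, adj_sub, adj_pow, hadjB, p3, p9, p4, p10, p12]
    abel
  have hcs : Commute s t := by
    rw [hs]
    exact (((((hc.add_left (hc.pow_left 3)).add_left (hc.pow_left 9)).sub_left
      (hc.pow_left 4)).sub_left (hc.pow_left 10)).sub_left (hc.pow_left 12))
  obtain ⟨e, he⟩ : ∃ e : M6 F, e = -1 - s := ⟨_, rfl⟩
  have hee : e * e = e := by
    have : e * e = e + 3 * (1 + s) + (s * s - 1) := by rw [he]; noncomm_ring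
    rw [this, h3, hss, zero_mul, sub_self, add_zero, add_zero]
  have hadje : adj e = 1 - e := by
    have : 1 - e = -1 + s + (1 + 1 + 1) := by rw [he]; abel
    rw [this, h111, add_zero, he, adj_sub, adj_neg, adj_one, hadjs]
    abel
  have hce : Commute e t := by
    rw [he]; exact ((Commute.one_left t).neg_left).sub_left hcs
  have hrank : e.rank = 3 := by
    have h1 := rank_idem e hee
    rw [← hadje, rank_adj] at h1
    simp only [Fintype.card_sum, Fintype.card_fin] at h1
    omega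
  obtain ⟨k, A, C, hAC, hCA⟩ := idem_factor' e hee
  have hk : k = 3 := by
    rw [← hrank]
    apply le_antisymm
    · have h1 : (1 : Matrix (Fin k) (Fin k) F) = C * e * A := by
        rw [← hAC, ← Matrix.mul_assoc, hCA, Matrix.one_mul, hCA]
      calc k = (1 : Matrix (Fin k) (Fin k) F).rank := by rw [rank_one, Fintype.card_fin]
        _ = (C * e * A).rank := by rw [← h1]
        _ ≤ (C * e).rank := rank_mul_le_left _ _
        _ ≤ e.rank := rank_mul_le_right _ _
    · calc e.rank = (A * C).rank := by rw [hAC]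
        _ ≤ A.rank := rank_mul_le_left _ _
        _ ≤ Fintype.card (Fin k) := rank_le_card_width _
        _ = k := Fintype.card_fin k
  subst hk
  have hYY : (C * t * A) * (C * t * A) = -1 := by
    have h1 : (C * t * A) * (C * t * A) = C * (t * (A * C) * t) * A := by
      simp only [Matrix.mul_assoc]
    have h2 : t * e * t = -e := by
      rw [mul_assoc, hce.eq, ← mul_assoc, ht, neg_mul, one_mul]
    rw [h1, hAC, h2, Matrix.mul_neg, Matrix.neg_mul, ← hAC, ← Matrix.mul_assoc, hCA, Matrix.one_mul, hCA]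
  have hdet := congrArg det hYY
  rw [det_mul, det_neg, det_one, Fintype.card_fin] at hdet
  apply no_sqrt hF (C * t * A).det
  rw [hdet]; norm_num

theorem no_26 (hF : Fintype.card F = 3) (g : Cfsg.PSp 3 F) : orderOf g ≠ 26 := by
  intro hg
  obtain ⟨x, rfl⟩ := QuotientGroup.mk_surjective g
  have key : ∀ k : ℕ, ¬ 26 ∣ k → ¬ ((x : M6 F) ^ k = 1 ∨ (x : M6 F) ^ k = -1) := by
    intro k hk h
    have h1 := (psp_pow_eq_one_iff (by norm_num) x k).mpr h
    have h2 := orderOf_dvd_of_pow_eq_one h1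
    rw [hg] at h2
    exact hk h2
  have h26 := (psp_pow_eq_one_iff (by norm_num) x 26).mp (by rw [← hg]; exact pow_orderOf_eq_one _)
  have h13 := key 13 (by norm_num)
  have h4 := key 4 (by norm_num)
  have hBs : adj ((x : M6 F) ^ 4) * (x : M6 F) ^ 4 = 1 := by
    rw [← coe_pow']; exact (mem_sp_iff _).mp (x ^ 4).2
  have hts : adj ((x : M6 F) ^ 13) * (x : M6 F) ^ 13 = 1 := by
    rw [← coe_pow']; exact (mem_sp_iff _).mp (x ^ 13).2
  have hB13 : ((x : M6 F) ^ 4) ^ 13 = 1 := by
    rw [← pow_mul, show 4 * 13 = 26 * 2 from rfl, pow_mul]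
    rcases h26 with h | h <;> rw [h] <;> simp
  have hB1 : (x : M6 F) ^ 4 ≠ 1 := fun h => h4 (Or.inl h)
  have hc : Commute ((x : M6 F) ^ 4) ((x : M6 F) ^ 13) := Commute.pow_pow_self _ 4 13
  have htt : (x : M6 F) ^ 13 * (x : M6 F) ^ 13 = (x : M6 F) ^ 26 := by rw [← pow_add]
  rcases h26 with h | h
  · exact h13 (caseA hF _ _ hBs hts hB13 hB1 hc (htt.trans h))
  · exact caseB' hF _ _ hBs hB13 hB1 hc (htt.trans h)

end Cfsg.Agent.Lib.Helper93.S63
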