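import Cfsg.Agent.S0245
import Cfsg.Agent.S0246
import Cfsg.Agent.S2469
import Cfsg.Agent.S2472
import Cfsg.Agent.Lib.Helper42.SpecPSp10
import Cfsg.Agent.Lib.Helper93.S63.No26
import Cfsg.Agent.Lib.Helper93.S63.Good

/-!
# The prime graph of `PSp₆(3)` (helper93)
-/

set_option autoImplicit false

namespace Cfsg.Agent.Lib.Helper93.S63

open Cfsg.Agent.Lib.Helper42.SpecPSp

variable {F : Type*} [Field F] [Fintype F]

theorem card_psp (hF : Fintype.card F = 3) : Nat.card (Cfsg.PSp 3 F) = 4585351680 := by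
  have h1 := Cfsg.Agent.S0245.result hF 3
  have h2 := Cfsg.Agent.S0246.result hF 3 (by norm_num)
  have h3 := Subgroup.card_eq_card_quotient_mul_card_subgroup
    (Subgroup.center (Matrix.symplecticGroup (Fin 3) F))
  rw [h1, h2] at h3
  have e1 : 3 ^ (3 ^ 2) * ∏ i ∈ Finset.range 3, (3 ^ (2 * (i + 1)) - 1) = 9170703360 := by
    decide +kernel
  have e2 : Nat.gcd 2 (3 - 1) = 2 := by decide
  rw [e1, e2] at h3
  show Nat.card (Matrix.symplecticGroup (Fin 3) F ⧸
    Subgroup.center (Matrix.symplecticGroup (Fin 3) F)) = 4585351680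
  omega

theorem finite_psp : Finite (Cfsg.PSp 3 F) := by
  have : Finite (Matrix.symplecticGroup (Fin 3) F) := Subtype.finite
  exact Quotient.finite _

theorem prime_dvd_card (s : ℕ) (hs : s.Prime) (hd : s ∣ 4585351680) :
    s = 2 ∨ s = 3 ∨ s = 5 ∨ s = 7 ∨ s = 13 := by
  rw [show 4585351680 = 2 ^ 9 * (3 ^ 9 * (5 * (7 * 13))) by norm_num] at hd
  rcases hs.dvd_mul.mp hd with h | h
  · exact Or.inl ((Nat.prime_dvd_prime_iff_eq hs (by norm_num)).mp (hs.dvd_of_dvd_pow h))
  rcases hs.dvd_mul.mp h with h | h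
  · exact Or.inr (Or.inl ((Nat.prime_dvd_prime_iff_eq hs (by norm_num)).mp (hs.dvd_of_dvd_pow h)))
  rcases hs.dvd_mul.mp h with h | h
  · exact Or.inr (Or.inr (Or.inl ((Nat.prime_dvd_prime_iff_eq hs (by norm_num)).mp h)))
  rcases hs.dvd_mul.mp h with h | h
  · exact Or.inr (Or.inr (Or.inr (Or.inl ((Nat.prime_dvd_prime_iff_eq hs (by norm_num)).mp h))))
  · exact Or.inr (Or.inr (Or.inr (Or.inr ((Nat.prime_dvd_prime_iff_eq hs (by norm_num)).mp h))))

theorem ord5 (hF : Fintype.card F = 3) : orderOf ((Fintype.card F : ℕ) : ZMod 5) = 4 := by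
  rw [hF]
  apply orderOf_eq_of_pow_and_pow_div_prime (by norm_num) (by decide)
  intro p hp hd
  have hle : p ≤ 4 := Nat.le_of_dvd (by norm_num) hd
  have hp' : p = 2 := by
    interval_cases p <;> simp_all (config := { decide := true })
  subst hp'
  decide

theorem ord7 (hF : Fintype.card F = 3) : orderOf ((Fintype.card F : ℕ) : ZMod 7) = 6 := by
  rw [hF]
  apply orderOf_eq_of_pow_and_pow_div_prime (by norm_num) (by decide)
  intro p hp hd
  have hle : p ≤ 6 := Nat.le_of_dvd (by norm_num) hd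
  have hp' : p = 2 ∨ p = 3 := by
    interval_cases p <;> simp_all (config := { decide := true })
  rcases hp' with rfl | rfl <;> decide

theorem exists_30 (hF : Fintype.card F = 3) : ∃ g : Cfsg.PSp 3 F, orderOf g = 30 := by
  have : Fact (Nat.Prime 3) := ⟨by norm_num⟩
  have := charP3 hF
  obtain ⟨g, hg⟩ := exists_C_plus (F := F) 3 (by norm_num) 2 1 (by norm_num) (by norm_num)
  refine ⟨g, ?_⟩
  rw [hg, hF]
  have : Nat.clog 3 (2 * 1) = 1 := by decide
  rw [this]
  norm_num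

theorem exists_14 (hF : Fintype.card F = 3) : ∃ g : Cfsg.PSp 3 F, orderOf g = 14 := by
  have : Fact (Nat.Prime 3) := ⟨by norm_num⟩
  have := charP3 hF
  have h := exists_torus_plus (F := F) 3 (by norm_num) 3 (by norm_num)
  rw [hF] at h
  exact exists_half_psp 3 (by norm_num) 28 (by norm_num) h

theorem good_psp (hF : Fintype.card F = 3) : Good (Cfsg.PSp 3 F) := by
  have hf3 : Fact (Nat.Prime 3) := ⟨by norm_num⟩
  have hch := charP3 hF
  have hfin : Finite (Cfsg.PSp 3 F) := finite_psp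
  have hc := card_psp hF
  refine ⟨?_, ?_, ?_⟩
  · intro p hp
    rw [hc]
    constructor
    · exact prime_dvd_card p hp
    · rintro (rfl | rfl | rfl | rfl | rfl) <;> norm_num
  · intro m hm
    simp only [List.mem_cons, List.mem_nil_iff, or_false] at hm
    rcases hm with rfl | rfl | rfl | rfl
    · exact Cfsg.Agent.S2510.exists_of_dvd (exists_30 hF) (by norm_num)
    · exact Cfsg.Agent.S2510.exists_of_dvd (exists_30 hF) (by norm_num)
    · exact exists_14 hF
    · exact Cfsg.Agent.S2510.exists_of_dvd (exists_30 hF) (by norm_num)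
  · have two : ∀ (r s k l ηk ηl : ℕ), r.Prime → s.Prime → r ≠ 2 → s ≠ 2 → r ≠ 3 → s ≠ 3 → r ≠ s →
        r ∣ 4585351680 → s ∣ 4585351680 →
        k = orderOf ((Fintype.card F : ℕ) : ZMod r) → l = orderOf ((Fintype.card F : ℕ) : ZMod s) →
        ((Odd k ∧ ηk = k) ∨ (Even k ∧ 2 * ηk = k)) → ((Odd l ∧ ηl = l) ∨ (Even l ∧ 2 * ηl = l)) →
        ηk ≤ ηl → 3 < ηk + ηl → (¬ ∃ t : ℕ, Odd t ∧ l = k * t) →
        ∀ g : Cfsg.PSp 3 F, orderOf g ≠ r * s := by
      intro r s k l ηk ηl hr hs hr2 hs2 hr3 hs3 hrs hrG hsG hk hl hηk hηl hkl h1 h2 g hg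
      have := (Cfsg.Agent.S2469.result (F := F) 3 3 (by norm_num) (by norm_num) r s hr hs hr2 hs2 hr3 hs3
        hrs (by rw [hc]; exact hrG) (by rw [hc]; exact hsG) k l ηk ηl hk hl hηk hηl hkl).mpr ⟨h1, h2⟩
      exact this ⟨g, hg⟩
    have one : ∀ (r k ηk : ℕ), r.Prime → r ≠ 2 → r ≠ 3 → r ∣ 4585351680 →
        k = orderOf ((Fintype.card F : ℕ) : ZMod r) →
        ((Odd k ∧ ηk = k) ∨ (Even k ∧ 2 * ηk = k)) → 3 - 1 < ηk →
        ∀ g : Cfsg.PSp 3 F, orderOf g ≠ r * 3 := by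
      intro r k ηk hr hr2 hr3 hrG hk hηk h1 g hg
      have := (Cfsg.Agent.S2472.result (F := F) 3 3 (by norm_num) (by norm_num) r hr hr2 hr3
        (by rw [hc]; exact hrG) k ηk hk hηk).mpr h1
      exact this ⟨g, hg⟩
    have o4 : (Odd 4 ∧ 2 = 4) ∨ (Even 4 ∧ 2 * 2 = 4) := Or.inr ⟨⟨2, rfl⟩, rfl⟩
    have o6 : (Odd 6 ∧ 3 = 6) ∨ (Even 6 ∧ 2 * 3 = 6) := Or.inr ⟨⟨3, rfl⟩, rfl⟩
    have o3 : (Odd 3 ∧ 3 = 3) ∨ (Even 3 ∧ 2 * 3 = 3) := Or.inl ⟨⟨1, rfl⟩, rfl⟩
    intro m hm
    simp only [List.mem_cons, List.mem_nil_iff, or_false] at hm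
    rcases hm with rfl | rfl | rfl | rfl | rfl | rfl
    · exact one 7 6 3 (by norm_num) (by norm_num) (by norm_num) (by norm_num) (ord7 hF).symm o6
        (by norm_num)
    · exact two 5 7 4 6 2 3 (by norm_num) (by norm_num) (by norm_num) (by norm_num) (by norm_num)
        (by norm_num) (by norm_num) (by norm_num) (by norm_num) (ord5 hF).symm (ord7 hF).symm o4 o6
        (by norm_num) (by norm_num) (by rintro ⟨t, -, ht⟩; omega)
    · exact one 13 3 3 (by norm_num) (by norm_num) (by norm_num) (by norm_num) (ord13 hF).symm o3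
        (by norm_num)
    · exact two 5 13 4 3 2 3 (by norm_num) (by norm_num) (by norm_num) (by norm_num) (by norm_num)
        (by norm_num) (by norm_num) (by norm_num) (by norm_num) (ord5 hF).symm (ord13 hF).symm o4 o3
        (by norm_num) (by norm_num) (by rintro ⟨t, -, ht⟩; omega)
    · exact two 7 13 6 3 3 3 (by norm_num) (by norm_num) (by norm_num) (by norm_num) (by norm_num)
        (by norm_num) (by norm_num) (by norm_num) (by norm_num) (ord7 hF).symm (ord13 hF).symm o6 o3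
        (by norm_num) (by norm_num) (by rintro ⟨t, -, ht⟩; omega)
    · exact no_26 hF

end Cfsg.Agent.Lib.Helper93.S63
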